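import Groth.Agent.VBPnLib.Basic
import Groth.Agent.VBP1Lib.Tensor
import Groth.Agent.CurvLib.EulerTensor
import Groth.Agent.Dual3Lib.ExtHH
import Groth.Agent.QuotSchLib.Serre
import Mathlib.Algebra.Homology.DerivedCategory.Ext.ExactSequences

/-!
# The first extension group of coherent modules on a projective scheme is finite dimensional
-/

set_option autoImplicit false
set_option linter.style.haveILetI false
set_option linter.unusedSectionVars false
set_option maxHeartbeats 1000000
set_option backward.isDefEq.respectTransparency false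
universe u

open CategoryTheory CategoryTheory.Limits AlgebraicGeometry CategoryTheory.Abelian

noncomputable section

namespace QuotObsLib

variable {X : Scheme.{u}}

/-- A map into a quotient of an injective lifts when the first extension group vanishes. -/
theorem exists_lift_of_ext_one [HasExt.{u} X.Modules] {V N I : X.Modules} (h : Subsingleton (Ext.{u} V N 1))
    (ι : N ⟶ I) [Mono ι] (f : V ⟶ cokernel ι) : ∃ g : V ⟶ I, g ≫ cokernel.π ι = f := by
  have hS : (ShortComplex.mk ι (cokernel.π ι) (cokernel.condition ι)).ShortExact :=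
    { exact := ShortComplex.exact_of_g_is_cokernel _ (cokernelIsCokernel _) }
  obtain ⟨x, hx⟩ := Ext.covariant_sequence_exact₃ V hS (Ext.mk₀ f) (zero_add 1) (h.elim _ _)
  obtain ⟨g, rfl⟩ := (Ext.mk₀_bijective _ _).2 x
  rw [Ext.mk₀_comp_mk₀] at hx
  exact ⟨g, (Ext.mk₀_bijective _ _).1 hx⟩

/-- No extensions by a target whose components admit none. -/
theorem subsingleton_ext_one_sigma [HasExt.{u} X.Modules] {σ : Type*} (A : σ → X.Modules) [HasCoproduct A]
    (N : X.Modules) (h : ∀ a, Subsingleton (Ext.{u} (A a) N 1)) : Subsingleton (Ext.{u} (∐ A) N 1) := by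
  haveI : EnoughInjectives X.Modules := IsGrothendieckAbelian.enoughInjectives.{u}
  let ι := Injective.ι N
  have hS : (ShortComplex.mk ι (cokernel.π ι) (cokernel.condition ι)).ShortExact :=
    { exact := ShortComplex.exact_of_g_is_cokernel _ (cokernelIsCokernel _) }
  refine subsingleton_of_forall_eq 0 fun x => ?_
  obtain ⟨x₃, rfl⟩ := Ext.covariant_sequence_exact₁ (∐ A) hS x (Ext.eq_zero_of_injective _) (zero_add 1)
  obtain ⟨f, rfl⟩ := (Ext.mk₀_bijective _ _).2 x₃
  choose g hg using fun a => exists_lift_of_ext_one (h a) ι (Sigma.ι A a ≫ f)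
  have e : Sigma.desc g ≫ cokernel.π ι = f := Sigma.hom_ext _ _ fun a => by rw [Sigma.ι_desc_assoc]; exact hg a
  rw [← e, ← Ext.mk₀_comp_mk₀, Ext.comp_assoc_of_second_deg_zero, hS.comp_extClass, Ext.comp_zero]

variable {k : Type u} [Field k] [X.Over (Spec (CommRingCat.of k))] [IsProper (X ↘ Spec (CommRingCat.of k))]

/-- Homomorphisms of coherent modules on a proper scheme form a finite dimensional space. -/
theorem finite_hom_coh {M P : X.Modules} (hM : Coh.IsCoh M) (hP : Coh.IsCoh P) : Module.Finite k (M ⟶ P) := by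
  haveI := CurvLib.isNoetherian k (X := X)
  have hc : Coh.IsCoh (CohCmpLib.homMod M P) := HomCohLib.isCoh_homMod hM hP
  haveI := CurvLib.finite_HH (k := k) hc 0
  haveI : Module.Finite k (Coh.structureModule X ⟶ CohCmpLib.homMod M P) :=
    Module.Finite.equiv (GenusOneSSLib.homEquiv (k := k) _).symm
  exact Module.Finite.of_surjective (VBPnLib.shL (k := k) M P) (VBPnLib.shL_surjective M P)

/-- Untwisting the vanishing of cohomology. -/
theorem subsingleton_ext_untwist [HasExt.{u} X.Modules] {A C : X.Modules}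
    (vC : CohB1.tensorMod C A ≅ Coh.structureModule X) (p : ℕ) (Q : X.Modules)
    (h : Subsingleton (Coh.HH X (CohB1.tensorMod Q C) 1)) :
    Subsingleton (Ext.{u} (CohB1.tensorMod A (FlatMod.freeMod X p)) Q 1) := by
  let T := CurvLib.tensorLeft' C
  haveI : T.IsEquivalence := VBP1Lib.isEquivalence_tensor vC
  haveI : T.PreservesInjectiveObjects :=
    Functor.preservesInjectiveObjects_of_adjunction_of_preservesMonomorphisms T.asEquivalence.symm.toAdjunction
  let e : T.obj (CohB1.tensorMod A (FlatMod.freeMod X p)) ≅ FlatMod.freeMod X p :=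
    (SerreVanLib.tensorAssoc C A (FlatMod.freeMod X p)).symm ≪≫ HilbPolyLib.congrLeft vC _ ≪≫
      KFlatLib.tensUnitIso _
  have h0 : Subsingleton (Ext.{u} (Coh.structureModule X) (T.obj Q) 1) :=
    (Groth.Agent.Dual3Lib.extHHEquiv _ 1).toEquiv.subsingleton_congr.2
      (SerreVanLib.subsingleton_HH_of_iso (KFlatLib.tensSwap Q C) 1 h)
  have h1 := subsingleton_ext_one_sigma (fun _ : Fin p => Coh.structureModule X) (T.obj Q) fun _ => h0
  have h2 : ∀ y : Ext.{u} (T.obj (CohB1.tensorMod A (FlatMod.freeMod X p))) (T.obj Q) 1, y = 0 := fun y => by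
    have : y = (Ext.mk₀ e.hom).comp ((Ext.mk₀ e.inv).comp y (zero_add 1)) (zero_add 1) := by simp
    rw [this, h1.elim ((Ext.mk₀ e.inv).comp y (zero_add 1)) 0, Ext.comp_zero]
  exact subsingleton_of_forall_eq 0 fun x =>
    (T.mapExt_bijective_of_preservesInjectiveObjects _ Q 1).1 ((h2 _).trans (h2 _).symm)

include k in
/-- Every coherent module is a quotient of one without extensions by a given one. -/
theorem exists_epi_ext_vanishing {L : X.Modules} (hL : CohB1.IsAmple L) (K Q : X.Modules) (hK : Coh.IsCoh K)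
    (hQ : Coh.IsCoh Q) [HasExt.{u} X.Modules] :
    ∃ (V : X.Modules) (π : V ⟶ K), Epi π ∧ Coh.IsCoh V ∧ Subsingleton (Ext.{u} V Q 1) := by
  haveI := CurvLib.isNoetherian k (X := X)
  obtain ⟨n₁, hn₁⟩ := MiscFlat6.eventually_gg_of_isAmple hL K hK
  obtain ⟨n₀, hn₀⟩ := SerreVanLib.exists_vanishing (X ↘ Spec (CommRingCat.of k)) hL.1 hL Q hQ
  obtain ⟨C, hC, hgg, hvan⟩ : ∃ C : X.Modules, PicF.IsInvertible C ∧
      Curv2.IsGloballyGenerated (CohB1.tensorMod K C) ∧ Subsingleton (Coh.HH X (CohB1.tensorMod Q C) 1) :=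
    ⟨CohB1.tensorPow L (n₀ + n₁), AmpleThLib.tensorPow_isInvertible hL.1 _, hn₁ _ (by omega),
      hn₀ _ (by omega) 1 one_pos⟩
  obtain ⟨A, hA, ⟨vC⟩⟩ : ∃ A : X.Modules, PicF.IsInvertible A ∧
      Nonempty (CohB1.tensorMod C A ≅ Coh.structureModule X) :=
    ⟨MiscFlat6.dual C, MiscFlat6.dual_isInvertible hC, MiscFlat6.nonempty_dualIso hC⟩
  obtain ⟨p, q, hq⟩ := VBResLib.exists_epi_free_of_gg (SerreVanLib.isCoh_tensor hK hC) hgg
  obtain ⟨π, hπ⟩ := QuotSchLib.exists_epi_untwist A C K
    (VBP1Lib.isEquivalence_tensor (KFlatLib.tensSwap C A ≪≫ vC)) vC p q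
  exact ⟨_, π, hπ, QCohLib.isCoh_of_iso (KFlatLib.tensSwap A (FlatMod.freeMod X p)) (SerreVanLib.isCoh_tensor
    ⟨CurvLib.isQCoh_freeMod X p, CurvLib.isFT_freeMod X p⟩ hA), subsingleton_ext_untwist vC p Q hvan⟩

/-- **`Ext¹` between coherent modules on a projective scheme is finite dimensional.** -/
theorem finite_ext_one {L : X.Modules} (hL : CohB1.IsAmple L) (K Q : X.Modules) (hK : Coh.IsCoh K)
    (hQ : Coh.IsCoh Q) [HasExt.{u} X.Modules] : Module.Finite k (Ext.{u} K Q 1) := by
  haveI := CurvLib.isNoetherian k (X := X)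
  obtain ⟨V, π, hπ, hV, hVQ⟩ := exists_epi_ext_vanishing (k := k) hL K Q hK hQ
  have hS : (ShortComplex.mk (kernel.ι π) π (kernel.condition π)).ShortExact :=
    { exact := ShortComplex.exact_of_f_is_kernel _ (kernelIsKernel _) }
  have hK' : Coh.IsCoh (kernel π) := QCohLib.isCoh_kernel π hV hK.1
  haveI := finite_hom_coh (k := k) hK' hQ
  let d : (kernel π ⟶ Q) →ₗ[k] Ext.{u} K Q 1 :=
    { toFun := fun f => hS.extClass.comp (Ext.mk₀ f) (add_zero 1)
      map_add' := fun f f' => by rw [Ext.mk₀_add, Ext.comp_add]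
      map_smul' := fun c f => by rw [Ext.mk₀_smul, Ext.comp_smul, RingHom.id_apply] }
  refine Module.Finite.of_surjective d fun z => ?_
  obtain ⟨x₁, hx₁⟩ := Ext.contravariant_sequence_exact₃ hS Q z (hVQ.elim _ _) (add_zero 1)
  obtain ⟨f, rfl⟩ := (Ext.mk₀_bijective _ _).2 x₁
  exact ⟨f, hx₁⟩

end QuotObsLib
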