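import Groth.Agent.QuotObsLib.TanPt
import Mathlib.AlgebraicGeometry.Morphisms.Smooth
import Mathlib.RingTheory.Smooth.StandardSmoothCotangent

/-!
# Forms on the relative cotangent space at a rational point of a smooth morphism
-/

set_option autoImplicit false
set_option linter.style.haveILetI false
set_option linter.unusedSectionVars false
set_option maxHeartbeats 1000000
set_option backward.isDefEq.respectTransparency false
set_option backward.isDefEq.respectTransparency.types false
universe u

open CategoryTheory CategoryTheory.Limits AlgebraicGeometry TopologicalSpace Opposite IsLocalRing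

noncomputable section

namespace QuotObsLib

open ArtFun

variable {k : Type u} [Field k] {Q S : Scheme.{u}} (qh : Q ⟶ S) (σ : S ⟶ Spec (CommRingCat.of k))

/-- Standard smooth charts determine the dimension of the relative tangent space. -/
theorem finrank_relForms_eq (p : Q) (res : letI := stalkAlg qh σ p; Q.presheaf.stalk p →ₐ[k] k)
    {U₀ : S.Opens} (hU₀ : IsAffineOpen U₀) {W : Q.Opens} (hW : IsAffineOpen W) (e : W ≤ qh ⁻¹ᵁ U₀) (hp : p ∈ W) {r : ℕ}
    (hstd : (qh.appLE U₀ W e).hom.IsStandardSmoothOfRelativeDimension r) :
    letI := stalkAlg qh σ p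
    Module.finrank k (relForms σ qh p res) = r := by
  letI := stalkAlg qh σ p
  let A := Γ(S, U₀)
  let B := Γ(Q, W)
  let R := Q.presheaf.stalk p
  letI algAB : Algebra A B := (qh.appLE U₀ W e).hom.toAlgebra
  haveI : Algebra.IsStandardSmoothOfRelativeDimension r A B := hstd
  haveI : Algebra.IsStandardSmooth A B := Algebra.IsStandardSmoothOfRelativeDimension.isStandardSmooth r
  let gm : B →+* R := (Q.presheaf.germ W p hp).hom
  let gS : A →+* S.presheaf.stalk (qh p) := (S.presheaf.germ U₀ (qh p) (e hp)).hom
  have hgm : ∀ c : A, gm (algebraMap A B c) = (qh.stalkMap p).hom (gS c) := fun c => by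
    refine Eq.trans ?_ (Scheme.Hom.germ_stalkMap_apply qh U₀ p (e hp) c).symm
    show (Q.presheaf.germ W p hp).hom ((qh.appLE U₀ W e).hom c) = _
    rw [Scheme.Hom.appLE, CommRingCat.comp_apply]
    exact TopCat.Presheaf.germ_res_apply Q.presheaf _ p hp _
  let θ : B →+* k := res.toRingHom.comp gm
  haveI : Nontrivial B := θ.domain_nontrivial
  letI : Algebra B k := θ.toAlgebra
  letI : Algebra A k := (θ.comp (algebraMap A B)).toAlgebra
  haveI : IsScalarTower A B k := IsScalarTower.of_algebraMap_eq' rfl
  let fl : Module.Dual k (maximalIdeal R).Cotangent → R → k := fun f x => f (HilbGlueLib.lin res x)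
  have hfl : ∀ f a b, fl f (a * b) = res a * fl f b + res b * fl f a := fun f a b => by
    show f (HilbGlueLib.lin res (a * b)) = res a * f (HilbGlueLib.lin res b) + res b * f (HilbGlueLib.lin res a)
    rw [HilbGlueLib.lin_mul, map_add, map_smul, map_smul]
    rfl
  have hfla : ∀ f a b, fl f (a + b) = fl f a + fl f b := fun f a b => by
    show f (HilbGlueLib.lin res (a + b)) = f _ + f _
    rw [map_add, map_add]
  have hW0 : ∀ (f : relForms σ qh p res) (c : A), fl f.1 (gm (algebraMap A B c)) = 0 := fun f c => by
    rw [hgm]
    exact f.2 _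
  let Df : relForms σ qh p res → Derivation A B k := fun f => Derivation.mk'
    { toFun := fun b => fl f.1 (gm b)
      map_add' := fun a b => by rw [map_add, hfla]
      map_smul' := fun c b => by
        show fl f.1 (gm (algebraMap A B c * b)) = θ (algebraMap A B c) * fl f.1 (gm b)
        rw [map_mul, hfl, hW0, mul_zero, add_zero]
        rfl }
    fun a b => by
      show fl f.1 (gm (a * b)) = θ a * fl f.1 (gm b) + θ b * fl f.1 (gm a)
      rw [map_mul, hfl]
      rfl
  let D := KaehlerDifferential.D A B
  let T : relForms σ qh p res → (Ω[B⁄A] →ₗ[B] k) := fun f => (Df f).liftKaehlerDifferential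
  have hTD : ∀ f b, T f (D b) = fl f.1 (gm b) := fun f b => Derivation.liftKaehlerDifferential_comp_D (Df f) b
  have hext : ∀ l l' : Ω[B⁄A] →ₗ[B] k, (∀ b, l (D b) = l' (D b)) → l = l' := fun l l' h =>
    Derivation.liftKaehlerDifferential_unique l l' (Derivation.ext h)
  haveI : Module.Finite B Ω[B⁄A] := inferInstance
  haveI : Module.Free B Ω[B⁄A] := Algebra.IsStandardSmooth.free_kaehlerDifferential
  let bs := Module.Free.chooseBasis B Ω[B⁄A]
  have hcard : Fintype.card (Module.Free.ChooseBasisIndex B Ω[B⁄A]) = r := by
    rw [← Module.finrank_eq_card_basis bs]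
    exact Module.finrank_eq_of_rank_eq (Algebra.IsStandardSmoothOfRelativeDimension.rank_kaehlerDifferential r)
  let Φ : relForms σ qh p res →ₗ[k] (Module.Free.ChooseBasisIndex B Ω[B⁄A] → k) :=
    { toFun := fun f i => T f (bs i)
      map_add' := fun f g => funext fun i => by
        have h : T (f + g) = T f + T g := hext _ _ fun b => by
          rw [LinearMap.add_apply, hTD, hTD, hTD]
          rfl
        show T (f + g) (bs i) = T f (bs i) + T g (bs i)
        rw [h, LinearMap.add_apply]
      map_smul' := fun c f => funext fun i => by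
        let m : k →ₗ[B] k :=
          { toFun := fun z => c * z
            map_add' := mul_add c
            map_smul' := fun b z => by
              show c * (θ b * z) = θ b * (c * z)
              ring }
        have h : T (c • f) = m ∘ₗ T f := hext _ _ fun b => by
          rw [LinearMap.comp_apply, hTD, hTD]
          rfl
        show T (c • f) (bs i) = c * T f (bs i)
        rw [h]
        rfl }
  let q : PrimeSpectrum B := hW.primeIdealOf ⟨p, hp⟩
  letI : Algebra B R := gm.toAlgebra
  haveI : IsLocalization.AtPrime R q.asIdeal := hW.isLocalization_stalk ⟨p, hp⟩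
  have hΦ : Function.Bijective Φ := by
    refine ⟨fun f g h => ?_, fun v => ?_⟩
    · have hT : T f = T g := bs.ext fun i => congrFun h i
      refine Subtype.ext (LinearMap.ext fun z => ?_)
      obtain ⟨x, rfl⟩ := Ideal.toCotangent_surjective _ z
      rw [← HilbGlueLib.lin_coe (res := res)]
      show fl f.1 x.1 = fl g.1 x.1
      obtain ⟨⟨b, u⟩, hx⟩ := IsLocalization.surj q.asIdeal.primeCompl (x.1 : R)
      have hu : res (gm u) ≠ 0 := (((IsLocalization.map_units R u).map res).ne_zero :)
      have hb : ∀ b, fl f.1 (gm b) = fl g.1 (gm b) := fun b => by rw [← hTD, ← hTD, hT]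
      have e1 := hfl f.1 x.1 (gm u)
      have e2 := hfl g.1 x.1 (gm u)
      rw [show (x.1 : R) * gm u = gm b from hx] at e1 e2
      rw [hb b, hb u] at e1
      exact mul_left_cancel₀ hu (add_left_cancel (e1.symm.trans e2))
    · let l : Ω[B⁄A] →ₗ[B] k := bs.constr B v
      let δ : B → k := fun b => l (D b)
      have hδm : ∀ a b, δ (a * b) = θ a * δ b + θ b * δ a := fun a b => by
        show l (D (a * b)) = _
        rw [Derivation.leibniz, map_add, map_smul, map_smul]
        rfl
      let φB : B →+* Art.dual k k :=
        { toFun := fun b => ((θ b, δ b) : TrivSqZeroExt k k)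
          map_one' := TrivSqZeroExt.ext (map_one θ) (by
            show l (D 1) = 0
            rw [Derivation.map_one_eq_zero, map_zero])
          map_mul' := fun a b => TrivSqZeroExt.ext (map_mul θ a b) (by
            show δ (a * b) = θ a • δ b + MulOpposite.op (θ b) • δ a
            rw [hδm, op_smul_eq_smul]
            rfl)
          map_zero' := TrivSqZeroExt.ext (map_zero θ) (by
            show l (D 0) = 0
            rw [map_zero, map_zero])
          map_add' := fun a b => TrivSqZeroExt.ext (map_add θ a b) (by
            show l (D (a + b)) = l (D a) + l (D b)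
            rw [map_add, map_add]) }
      have hunit : ∀ u : q.asIdeal.primeCompl, IsUnit (φB u) := fun u =>
        (Classical.not_not (a := IsUnit (φB u))).1 fun h =>
          (((IsLocalization.map_units R u).map res).ne_zero :) (show θ (u : B) = 0 from
            (Art.mem_maximalIdeal_iff (Art.dual k k) _).1 ((IsLocalRing.mem_maximalIdeal _).2 h))
      let ψ : R →+* Art.dual k k := IsLocalization.lift hunit
      have hψ : ∀ b, ψ (gm b) = φB b := IsLocalization.lift_eq hunit
      have hψres : ∀ x : R, (Art.dual k k).res (ψ x) = res x := fun x =>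
        RingHom.congr_fun (IsLocalization.ringHom_ext q.asIdeal.primeCompl
          (j := (Art.dual k k).res.toRingHom.comp ψ) (k := res.toRingHom) (RingHom.ext fun b => by
            show (Art.dual k k).res (ψ (gm b)) = res (gm b)
            rw [hψ]
            rfl)) x
      have hψS : ∀ x, ψ ((qh.stalkMap p).hom x) = algebraMap k _ (res ((qh.stalkMap p).hom x)) := by
        intro x
        letI : Algebra A (S.presheaf.stalk (qh p)) := gS.toAlgebra
        haveI : IsLocalization.AtPrime (S.presheaf.stalk (qh p)) (hU₀.primeIdealOf ⟨qh p, e hp⟩).asIdeal :=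
          hU₀.isLocalization_stalk ⟨qh p, e hp⟩
        refine RingHom.congr_fun (IsLocalization.ringHom_ext (hU₀.primeIdealOf ⟨qh p, e hp⟩).asIdeal.primeCompl
          (j := ψ.comp (qh.stalkMap p).hom)
          (k := (algebraMap k (Art.dual k k)).comp (res.toRingHom.comp (qh.stalkMap p).hom))
          (RingHom.ext fun c => ?_)) x
        show ψ ((qh.stalkMap p).hom (gS c)) = algebraMap k _ (res ((qh.stalkMap p).hom (gS c)))
        rw [← hgm, hψ]
        refine TrivSqZeroExt.ext (R := k) (M := k) rfl ?_
        refine Eq.trans ?_ (TrivSqZeroExt.snd_inl k _).symm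
        show l (D (algebraMap A B c)) = 0
        rw [Derivation.map_algebraMap, map_zero]
      let φ : R →ₐ[k] Art.dual k k :=
        { ψ with
          commutes' := fun c => by
            have ha : Spec.preimage (Q.fromSpecStalk p ≫ qh ≫ σ) =
                Spec.preimage (S.fromSpecStalk (qh p) ≫ σ) ≫ qh.stalkMap p :=
              Spec.map_injective (by
                rw [Spec.map_comp, Spec.map_preimage, Spec.map_preimage,
                  Scheme.SpecMap_stalkMap_fromSpecStalk_assoc])
            show ψ ((Spec.preimage (Q.fromSpecStalk p ≫ qh ≫ σ)).hom c) = _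
            have h2 : res ((Spec.preimage (Q.fromSpecStalk p ≫ qh ≫ σ)).hom c) = c := res.commutes c
            rw [ha] at h2 ⊢
            refine (hψS _).trans (congrArg (algebraMap k _) h2) }
      obtain ⟨f, hf⟩ := HilbGlueLib.ptD_bijective.2 (⟨φ, AlgHom.ext hψres⟩ : HomSet R res (Art.dual k k))
      have hfv : ∀ x, fl f x = TrivSqZeroExt.snd (R := k) (M := k) (ψ x) := fun x =>
        congrArg (fun z : HomSet R res (Art.dual k k) => TrivSqZeroExt.snd (R := k) (M := k) (z.1 x)) hf
      have hfW : f ∈ relForms σ qh p res := fun x => by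
        refine (hfv _).trans ?_
        rw [hψS]
        exact TrivSqZeroExt.snd_inl k _
      refine ⟨⟨f, hfW⟩, ?_⟩
      have hT : T ⟨f, hfW⟩ = l := hext _ _ fun b => by
        rw [hTD]
        refine (hfv _).trans ?_
        rw [hψ]
        rfl
      funext i
      show T ⟨f, hfW⟩ (bs i) = v i
      rw [hT]
      exact bs.constr_basis B v i
  rw [(LinearEquiv.ofBijective Φ hΦ).finrank_eq, Module.finrank_fintype_fun_eq_card, hcard]

end QuotObsLib
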